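import Groth.Prelude.Def_HRes

/-!
# Degree zero cohomology over an object of a big site is sections, compatibly with restriction
-/

set_option autoImplicit false
set_option backward.isDefEq.respectTransparency false

noncomputable section

universe u

open CategoryTheory CategoryTheory.Limits AlgebraicGeometry Opposite CategoryTheory.Abelian

namespace Groth.Agent.HU32

variable (K : Precoverage Scheme.{u})

abbrev Z : AddCommGrpCat.{u + 1} := AddCommGrpCat.of (ULift.{u + 1} ℤ)

/-- The identity object of a big site. -/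
abbrev top (T : Scheme.{u}) : Over T := Over.mk (𝟙 T)

/-- The tautological section of the constant sheaf. -/
def unitElt (T : Scheme.{u}) (W : Over T) :
    ((constantSheaf (QuotSh.J K T) AddCommGrpCat.{u + 1}).obj Z).obj.obj (op W) :=
  (toSheafify (QuotSh.J K T) ((Functor.const _).obj Z)).app (op W) ⟨1⟩

/-- Degree zero cohomology is sections over the identity object. -/
def h0 (T : Scheme.{u}) (F : BigSite.Ab K T) : BigSite.H K T F 0 ≃+ F.obj.obj (op (top T)) :=
  Sheaf.H.equiv₀ F Over.mkIdTerminal

theorem h0_apply (T : Scheme.{u}) (F : BigSite.Ab K T) (x : BigSite.H K T F 0) :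
    h0 K T F x = (Ext.addEquiv₀ x).hom.app (op (top T)) (unitElt K T (top T)) := rfl

theorem h0_map {T : Scheme.{u}} {F G : BigSite.Ab K T} (φ : F ⟶ G) (x : BigSite.H K T F 0) :
    h0 K T G (Sheaf.H.map φ 0 x) = φ.hom.app (op (top T)) (h0 K T F x) :=
  (Sheaf.H.equiv₀_naturality Over.mkIdTerminal φ x).symm

theorem unitElt_map {T : Scheme.{u}} {W W' : Over T} (g : W' ⟶ W) :
    ((constantSheaf (QuotSh.J K T) AddCommGrpCat.{u + 1}).obj Z).obj.map g.op (unitElt K T W) =
      unitElt K T W' :=
  (ConcreteCategory.congr_hom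
    ((toSheafify (QuotSh.J K T) ((Functor.const _).obj Z)).naturality g.op) _).symm

theorem pullConst_inv_unitElt {S T : Scheme.{u}} (f : T ⟶ S) (W : Over T) :
    (HRes.pullConst K f Z).inv.hom.app (op W) (unitElt K T W) =
      unitElt K S ((Over.map f).obj W) :=
  ConcreteCategory.congr_hom (NatTrans.congr_app
    ((Over.map f).toSheafify_pullbackSheafificationCompatibility AddCommGrpCat.{u + 1}
      (QuotSh.J K T) (QuotSh.J K S) ((Functor.const _).obj Z)) (op W)) _

theorem h0_pull {S T : Scheme.{u}} (f : T ⟶ S) (F : BigSite.Ab K S) (x : BigSite.H K S F 0) :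
    h0 K T _ (HRes.pull K f F 0 x) =
      F.obj.map (Over.mkIdTerminal.from ((Over.map f).obj (top T))).op (h0 K S F x) := by
  obtain ⟨φ, rfl⟩ := (Ext.mk₀_bijective _ F).2 x
  rw [HRes.pull_apply, Ext.mapExactFunctor_mk₀, Ext.mk₀_comp_mk₀, h0_apply, h0_apply]
  erw [Ext.addEquiv₀.apply_symm_apply, Ext.addEquiv₀.apply_symm_apply]
  change φ.hom.app (op ((Over.map f).obj (top T)))
    ((HRes.pullConst K f Z).inv.hom.app (op (top T)) (unitElt K T (top T))) = _
  rw [pullConst_inv_unitElt, ← unitElt_map K (Over.mkIdTerminal.from ((Over.map f).obj (top T))),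
    NatTrans.naturality_apply]

/-- The identity object, seen over the base. -/
def topIso {S : Scheme.{u}} (U : Over S) : (Over.map U.hom).obj (top U.left) ≅ U :=
  Over.isoMk (Iso.refl _) (by simp)

/-- Degree zero cohomology over an object is sections. -/
def sectEq {S : Scheme.{u}} (F : BigSite.Ab K S) (U : Over S) :
    BigSite.HU K F 0 U ≃+ BigSite.sect K F U :=
  (h0 K U.left _).trans (F.obj.mapIso (topIso U).symm.op).addCommGroupIsoToAddEquiv

theorem sectEq_apply {S : Scheme.{u}} (F : BigSite.Ab K S) (U : Over S) (x : BigSite.HU K F 0 U) :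
    sectEq K F U x = F.obj.map (topIso U).inv.op (h0 K U.left _ x) := rfl

theorem sectEq_resHU {S : Scheme.{u}} (F : BigSite.Ab K S) {U U' : Over S} (g : U' ⟶ U)
    (x : BigSite.HU K F 0 U) :
    sectEq K F U' (HRes.resHU K F 0 g x) = F.obj.map g.op (sectEq K F U x) := by
  rw [sectEq_apply, sectEq_apply, HRes.resHU, AddMonoidHom.comp_apply, h0_map, h0_pull]
  simp only [HRes.pullIso, Iso.trans_hom, Iso.app_hom]
  change F.obj.map _ (F.obj.map _ (F.obj.map _ (F.obj.map _ (h0 K U.left _ x)))) = _
  simp only [← ConcreteCategory.comp_apply, ← Functor.map_comp, ← op_comp]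
  congr 4
  apply Quiver.Hom.unop_inj
  ext
  simp [topIso]

end Groth.Agent.HU32
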